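import Groth.Agent.CechComp71.Scheme
import Groth.Agent.Div89.HomSheaf
import Groth.Agent.QC70.HomMod

/-! `H¹` is Čech `H¹` for a covering by affine opens, and the two sheaves of local morphisms agree. -/

set_option autoImplicit false
set_option maxHeartbeats 400000
set_option linter.style.haveILetI false
set_option backward.isDefEq.respectTransparency.types false

noncomputable section

universe u

open CategoryTheory Limits AlgebraicGeometry TopologicalSpace Opposite

namespace Groth.Agent.H98CechOne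

open TopCoh49 Coh69 CechComp71

section Top

variable {X : TopCat.{u}} {ι : Type u} {U : ι → Opens X} (hU : ⨆ i, U i = ⊤) {F : CohTop.Ab X}
  (h : ∀ i : Fin 1 → ι, Subsingleton (E F 1 (cOpen U i)))

include h in
theorem cechTo_one_surjective : Function.Surjective (cechTo U hU F 1) := by
  intro x
  have hS := injSES_shortExact F
  have := subsingleton_E_of_injective (Injective.under F) 0 (⊤ : Opens X)
  obtain ⟨y, rfl⟩ := exact₁ hS rfl ⊤ x
    (Subsingleton.elim (α := E (Injective.under F) 1 ⊤) _ _)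
  obtain ⟨z, rfl⟩ := (zeroEquiv hU (injSES F).X₃).surjective y
  choose t ht using fun i => app_surjective hS (h i) (z.1 i)
  have ht' : cmap U (injSES F).g.hom 0 t = z.1 := funext ht
  obtain ⟨s, hs⟩ := cmap_exact hS U 1 (cd U _ 0 t) (by rw [← cd_cmap, ht']; exact z.2)
  have hs0 : s ∈ (cd U F.obj 1).ker := cmap_injective hS U 2 (by
    rw [← cd_cmap, hs, cd_cd, map_zero])
  refine ⟨⟨s, hs0⟩, ?_⟩
  rw [cechTo_succ hU F 0 ⟨s, hs0⟩ t hs.symm, cechTo_zero]
  congr 2
  exact Subtype.ext ht'

theorem cechTo_one_eq_zero (s : Z U F 1) (hs0 : cechTo U hU F 1 s = 0) : ∃ r, cd U F.obj 0 r = s.1 := by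
  have hS := injSES_shortExact F
  obtain ⟨t, ht⟩ := exists_lift F 0 s
  rw [cechTo_succ hU F 0 s t ht] at hs0
  obtain ⟨w, hw⟩ := exact₃ hS rfl ⊤ _ hs0
  obtain ⟨b, rfl⟩ := (zeroEquiv hU (injSES F).X₂).surjective w
  rw [← zeroEquiv_zmap, cechTo_zero] at hw
  have hb := congrArg Subtype.val ((zeroEquiv hU _).injective hw)
  obtain ⟨r, hr⟩ := cmap_exact hS U 0 (t - b.1) (by rw [map_sub, sub_eq_zero]; exact hb.symm)
  refine ⟨r, cmap_injective hS U 1 ?_⟩
  rw [← cd_cmap, hr, map_sub, b.2, sub_zero]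
  exact ht

end Top

section Scheme

variable {X : Scheme.{u}} {ι : Type u}

theorem nonempty_cechH_one_equiv_HH (U : ι → X.Opens) (hU : ⨆ i, U i = ⊤) (hA : ∀ i, IsAffineOpen (U i))
    (M : X.Modules) [M.IsQuasicoherent] : Nonempty (CohB1.cechH U M 1 ≃+ Coh.HH X M 1) := by
  have h : ∀ i : Fin 1 → ι, Subsingleton (E (X := X.toTopCat) (Coh.toAb M) 1 (cOpen U i)) := fun i => by
    have e : cOpen U i = U (i 0) :=
      le_antisymm (cOpen_le U i 0) (le_cOpen U fun j => le_of_eq (by rw [Subsingleton.elim j 0]))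
    rw [e]
    exact subsingleton_E_affine M (hA (i 0)) 0
  have hsurj : Function.Surjective (toHH U hU M (0 + 1)) :=
    (HEquivTop (X := X.toTopCat) (Coh.toAb M) (0 + 1)).symm.surjective.comp (cechTo_one_surjective hU h)
  have hker : ∀ z : MZ U M (0 + 1), toHH U hU M (0 + 1) z = 0 ↔ ∃ r, cd U M.presheaf 0 r = z.1 := fun z =>
    (HEquivTop (X := X.toTopCat) (Coh.toAb M) (0 + 1)).symm.map_eq_zero_iff.trans
      ⟨fun hz => cechTo_one_eq_zero hU z hz, fun ⟨r, hr⟩ => cechTo_coboundary hU (Coh.toAb M) 0 z r hr⟩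
  exact ⟨Pn71.cechHEquivOfKer U M.presheaf 0 (toHH U hU M (0 + 1)) hsurj hker⟩

theorem nonempty_cechH_congr (U : ι → X.Opens) {M N : X.Modules} (e : M ≅ N) (p : ℕ) :
    Nonempty (CohB1.cechH U M p ≃+ CohB1.cechH U N p) := by
  let e₁ : (cechComplexFunctor (A := AddCommGrpCat.{u}) U).obj M.presheaf ≅
      (cechComplexFunctor (A := AddCommGrpCat.{u}) U).obj N.presheaf :=
    (cechComplexFunctor (A := AddCommGrpCat.{u}) U).mapIso ((Scheme.Modules.toPresheaf X).mapIso e)
  exact ⟨((HomologicalComplex.homologyFunctor AddCommGrpCat.{u} _ p).mapIso e₁).addCommGroupIsoToAddEquiv⟩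

open Groth.Agent.QC70

/-- The comparison of the two sheaves of local morphisms. -/
def toHomSh (F G : X.Modules) : homMod F G ⟶ RefHull.homSh F G :=
  HomOn.toHom
    { app := fun W _ =>
        { toFun := fun φ => Div89.secOfHomOn (ofSec φ)
          map_add' := fun φ φ' => Div89.sec_ext _ _ fun x hx => LinearMap.ext fun e => by
            obtain ⟨V, hxV, m, rfl⟩ := germM_exist e
            rw [← germM_res (inf_le_left : V ⊓ W ≤ V) (show x ∈ V ⊓ W from ⟨hxV, hx⟩) m]
            change Div89.homOnStalk (ofSec (φ + φ')) x hx _ = Div89.homOnStalk (ofSec φ) x hx _ +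
              Div89.homOnStalk (ofSec φ') x hx _
            erw [Div89.homOnStalk_germ _ inf_le_right x ⟨hxV, hx⟩, Div89.homOnStalk_germ _ inf_le_right x ⟨hxV, hx⟩,
              Div89.homOnStalk_germ _ inf_le_right x ⟨hxV, hx⟩, ← germM_add]
            rfl
          map_smul' := fun a φ => Div89.sec_ext _ _ fun x hx => LinearMap.ext fun e => by
            obtain ⟨V, hxV, m, rfl⟩ := germM_exist e
            rw [← germM_res (inf_le_left : V ⊓ W ≤ V) (show x ∈ V ⊓ W from ⟨hxV, hx⟩) m]
            change Div89.homOnStalk (ofSec (a • φ)) x hx _ =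
              X.presheaf.germ W x hx a • Div89.homOnStalk (ofSec φ) x hx _
            erw [Div89.homOnStalk_germ _ inf_le_right x ⟨hxV, hx⟩, Div89.homOnStalk_germ _ inf_le_right x ⟨hxV, hx⟩,
              HomOn.smul_app, germM_smul, germ_resO] }
      app_res := fun {W W'} _ h φ => Div89.sec_ext _ _ fun x hx => LinearMap.ext fun e => by
        obtain ⟨V, hxV, m, rfl⟩ := germM_exist e
        rw [← germM_res (inf_le_left : V ⊓ W' ≤ V) (show x ∈ V ⊓ W' from ⟨hxV, hx⟩) m]
        change Div89.homOnStalk (ofSec (res (homMod F G) h φ)) x hx _ = Div89.homOnStalk (ofSec φ) x (h hx) _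
        erw [Div89.homOnStalk_germ _ inf_le_right x ⟨hxV, hx⟩,
          Div89.homOnStalk_germ (ofSec φ) (inf_le_right.trans h) x ⟨hxV, hx⟩]
        rfl }

theorem isIso_toHomSh (F G : X.Modules) : IsIso (toHomSh F G) := by
  have h : ∀ W : X.Opens, Function.Bijective ((toHomSh F G).app W) := fun W => by
    have e : ∀ φ : Γ(homMod F G, W), (toHomSh F G).app W φ = Div89.secOfHomOn (ofSec φ) := fun φ => by
      rw [toHomSh, HomOn.toHom_app]
      rfl
    refine ⟨fun φ φ' hh => ?_, fun g => ⟨(Div89.homOnOfSec g).toSec, (e _).trans (Div89.secOfHomOn_homOnOfSec g)⟩⟩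
    rw [e, e] at hh
    exact (Div89.homOnOfSec_secOfHomOn (ofSec φ)).symm.trans
      ((congrArg Div89.homOnOfSec hh).trans (Div89.homOnOfSec_secOfHomOn (ofSec φ')))
  haveI : Mono (toHomSh F G) := mono_of_app_injective _ fun W => (h W).1
  haveI : Epi (toHomSh F G) := epi_of_locally_surjective _ fun W s p hp => by
    obtain ⟨t, rfl⟩ := (h W).2 s
    exact ⟨W, le_rfl, t, hp, (QC70.res_self _).symm⟩
  exact isIso_of_mono_of_epi _

end Scheme

end Groth.Agent.H98CechOne

end
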